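import Mathlib
import Groth.Prelude.Def_PolLaw2

open scoped TensorProduct

namespace DetLawNormal

universe u

section Base

variable {A : Type u} [CommRing A] {B M : Type u} [CommRing B] [Algebra A B] [AddCommGroup M] [Module A M]
  [Module B M] [IsScalarTower A B M]

/-- The action commutes with extension of the test algebra. -/
theorem actEnd_baseChange (R R' : Type u) [CommRing R] [Algebra A R] [CommRing R'] [Algebra A R'] [Algebra R R']
    [IsScalarTower A R R'] (x : R ⊗[A] B) :
    PolLaw.actEnd M R' (Algebra.TensorProduct.map (IsScalarTower.toAlgHom A R R') (AlgHom.id A B) x) =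
      (TensorProduct.AlgebraTensorModule.cancelBaseChange A R R' R' M).toLinearMap ∘ₗ
        (PolLaw.actEnd M R x).baseChange R' ∘ₗ
          (TensorProduct.AlgebraTensorModule.cancelBaseChange A R R' R' M).symm.toLinearMap := by
  refine TensorProduct.AlgebraTensorModule.ext fun t m => ?_
  induction x using TensorProduct.induction_on with
  | zero => simp
  | add x y hx hy => simp only [map_add, LinearMap.baseChange_add, LinearMap.add_comp, LinearMap.comp_add,
      LinearMap.add_apply, hx, hy]
  | tmul s b =>
    simp [TensorProduct.AlgebraTensorModule.cancelBaseChange_symm_tmul, Algebra.smul_def]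

theorem detAct_baseChange (R R' : Type u) [CommRing R] [Algebra A R] [CommRing R'] [Algebra A R'] [Algebra R R']
    [IsScalarTower A R R'] [Module.Free R (R ⊗[A] M)] [Module.Finite R (R ⊗[A] M)] (x : R ⊗[A] B) :
    PolLaw.detAct M R' (Algebra.TensorProduct.map (IsScalarTower.toAlgHom A R R') (AlgHom.id A B) x) =
      algebraMap R R' (PolLaw.detAct M R x) := by
  rw [PolLaw.detAct, actEnd_baseChange, LinearMap.det_conj, LinearMap.det_baseChange]
  rfl

end Base

/-- The determinant of an endomorphism killed by a monic polynomial over `R` is integral over `R`. -/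
theorem isIntegral_det {R P V : Type u} [CommRing R] [CommRing P] [IsDomain P] [Algebra R P] [AddCommGroup V]
    [Module P V] [Module.Free P V] [Module.Finite P V] [Module R V] [IsScalarTower R P V] (f : Module.End P V) {q : Polynomial R} (hq : q.Monic)
    (hf : Polynomial.aeval f q = 0) : IsIntegral R (LinearMap.det f) := by
  let L := AlgebraicClosure (FractionRing P)
  haveI : IsScalarTower R P L := inferInstance
  have hinj : Function.Injective (algebraMap P L) := by
    rw [IsScalarTower.algebraMap_eq P (FractionRing P) L]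
    exact (algebraMap (FractionRing P) L).injective.comp (IsFractionRing.injective P (FractionRing P))
  refine (isIntegral_algHom_iff (IsScalarTower.toAlgHom R P L) hinj).1 ?_
  show IsIntegral R (algebraMap P L (LinearMap.det f))
  rw [← LinearMap.det_baseChange]
  let fL : Module.End L (L ⊗[P] V) := f.baseChange L
  let qP : Polynomial P := q.map (algebraMap R P)
  have hqP : Polynomial.aeval f qP = 0 := by rw [Polynomial.aeval_map_algebraMap, hf]
  have hqL : Polynomial.aeval fL (qP.map (algebraMap P L)) = 0 := by
    rw [Polynomial.aeval_map_algebraMap]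
    have : fL = Module.End.baseChangeHom P L V f := rfl
    rw [this, Polynomial.aeval_algHom_apply, hqP, map_zero]
  have hroot : ∀ μ ∈ fL.charpoly.roots, IsIntegral R μ := by
    intro μ hμ
    have hμ' : Module.End.HasEigenvalue fL μ :=
      (Module.End.hasEigenvalue_iff_isRoot_charpoly fL μ).2 (Polynomial.isRoot_of_mem_roots hμ)
    obtain ⟨v, hv⟩ := hμ'.exists_hasEigenvector
    have h1 := Module.End.aeval_apply_of_hasEigenvector (p := qP.map (algebraMap P L)) hv
    rw [hqL, LinearMap.zero_apply, eq_comm, smul_eq_zero] at h1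
    have h2 := h1.resolve_right hv.2
    refine ⟨q, hq, ?_⟩
    rwa [Polynomial.eval_map, Polynomial.eval₂_map, ← IsScalarTower.algebraMap_eq] at h2
  have hsplit : fL.charpoly.Splits := IsAlgClosed.splits _
  rw [LinearMap.det_eq_sign_charpoly_coeff]
  refine IsIntegral.mul ((isIntegral_one.neg).pow _) ?_
  rw [hsplit.coeff_zero_eq_prod_roots_of_monic (LinearMap.charpoly_monic fL)]
  exact IsIntegral.mul ((isIntegral_one.neg).pow _) (IsIntegral.multiset_prod hroot)

variable {A : Type u} [CommRing A] [IsDomain A] {B M : Type u} [CommRing B] [Algebra A B] [AddCommGroup M]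
  [Module A M] [Module B M] [IsScalarTower A B M]

/-- Polynomials over the fraction field. -/
abbrev KP (A : Type u) [CommRing A] (n : ℕ) : Type u := MvPolynomial (Fin n) (FractionRing A)

/-- The inclusion `A[t] → K[t]`. -/
noncomputable def incl (A : Type u) [CommRing A] (n : ℕ) : MvPolynomial (Fin n) A →ₐ[A] KP A n :=
  MvPolynomial.mapAlgHom (Algebra.ofId A (FractionRing A))

omit [IsDomain A] in
theorem incl_injective (n : ℕ) : Function.Injective (incl A n) :=
  MvPolynomial.map_injective _ (IsFractionRing.injective A (FractionRing A))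

omit [IsDomain A] in
instance finite_KP [Module.Finite A M] (n : ℕ) : Module.Finite (KP A n) (KP A n ⊗[A] M) := inferInstance

instance free_KP (n : ℕ) : Module.Free (KP A n) (KP A n ⊗[A] M) :=
  Module.Free.of_equiv
    (TensorProduct.AlgebraTensorModule.cancelBaseChange A (FractionRing A) (KP A n) (KP A n) M)

theorem finrank_KP {d : ℕ} (hd : Module.finrank (FractionRing A) (FractionRing A ⊗[A] M) = d) (n : ℕ) :
    Module.finrank (KP A n) (KP A n ⊗[A] M) = d := by
  rw [← hd, ← (TensorProduct.AlgebraTensorModule.cancelBaseChange A (FractionRing A) (KP A n) (KP A n) M).finrank_eq,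
    Module.finrank_baseChange]

variable (M) in
/-- The determinant over `K[t]`. -/
noncomputable def detK (n : ℕ) (x : MvPolynomial (Fin n) A ⊗[A] B) : KP A n :=
  PolLaw.detAct M (KP A n) (Algebra.TensorProduct.map (incl A n) (AlgHom.id A B) x)

theorem detK_one (n : ℕ) : detK M n (1 : MvPolynomial (Fin n) A ⊗[A] B) = 1 := by
  rw [detK, map_one, PolLaw.detAct, map_one, map_one]

theorem detK_mul (n : ℕ) (x y : MvPolynomial (Fin n) A ⊗[A] B) :
    detK M n (x * y) = detK M n x * detK M n y := by
  rw [detK, map_mul, PolLaw.detAct, map_mul, map_mul]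
  rfl

theorem detK_smul {d : ℕ} (hd : Module.finrank (FractionRing A) (FractionRing A ⊗[A] M) = d) (n : ℕ)
    (r : MvPolynomial (Fin n) A) (x : MvPolynomial (Fin n) A ⊗[A] B) :
    detK M n (r • x) = incl A n (r ^ d) * detK M n x := by
  have : Algebra.TensorProduct.map (incl A n) (AlgHom.id A B) (r • x) =
      incl A n r • Algebra.TensorProduct.map (incl A n) (AlgHom.id A B) x := by
    induction x using TensorProduct.induction_on with
    | zero => simp
    | tmul s b => simp [TensorProduct.smul_tmul']
    | add x y hx hy => simp only [smul_add, map_add, hx, hy]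
  rw [detK, this, PolLaw.detAct, map_smul, LinearMap.det_smul, finrank_KP hd, map_pow]
  rfl

theorem detK_natural' {n : ℕ} {R' : Type u} [CommRing R'] [Algebra A R'] (φ : MvPolynomial (Fin n) A →ₐ[A] R')
    (ψ : KP A n →ₐ[A] R') (hψ : ψ.comp (incl A n) = φ) [Module.Finite A M]
    (x : MvPolynomial (Fin n) A ⊗[A] B) :
    PolLaw.detAct M R' (Algebra.TensorProduct.map φ (AlgHom.id A B) x) = ψ (detK M n x) := by
  letI : Algebra (KP A n) R' := ψ.toRingHom.toAlgebra
  haveI : IsScalarTower A (KP A n) R' := IsScalarTower.of_algebraMap_eq fun a => (ψ.commutes a).symm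
  have h1 : IsScalarTower.toAlgHom A (KP A n) R' = ψ := AlgHom.ext fun _ => rfl
  have h2 : ∀ y, Algebra.TensorProduct.map φ (AlgHom.id A B) y =
      Algebra.TensorProduct.map ψ (AlgHom.id A B) (Algebra.TensorProduct.map (incl A n) (AlgHom.id A B) y) := by
    intro y
    induction y using TensorProduct.induction_on with
    | zero => simp
    | tmul s b =>
      rw [Algebra.TensorProduct.map_tmul, Algebra.TensorProduct.map_tmul, Algebra.TensorProduct.map_tmul,
        show ψ (incl A n s) = φ s from AlgHom.congr_fun hψ s]
      rfl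
    | add x y hx hy => simp only [map_add, hx, hy]
  rw [detK, h2, ← h1]
  exact detAct_baseChange (KP A n) R' _

theorem detK_mem [IsIntegrallyClosed A] [Module.Finite A M] (n : ℕ) (x : MvPolynomial (Fin n) A ⊗[A] B) :
    ∃ a : MvPolynomial (Fin n) A, incl A n a = detK M n x := by
  let R := MvPolynomial (Fin n) A
  letI : Algebra R (KP A n) := (incl A n).toRingHom.toAlgebra
  haveI : IsScalarTower A R (KP A n) := IsScalarTower.of_algebraMap_eq fun a => ((incl A n).commutes a).symm
  have h1 : IsScalarTower.toAlgHom A R (KP A n) = incl A n := AlgHom.ext fun _ => rfl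
  obtain ⟨q, hq, hq'⟩ := LinearMap.exists_monic_and_aeval_eq_zero R (PolLaw.actEnd M R x)
  let e := TensorProduct.AlgebraTensorModule.cancelBaseChange A R (KP A n) (KP A n) M
  have hint : IsIntegral R (detK M n x) := by
    refine isIntegral_det _ hq ?_
    have h2 : PolLaw.actEnd M (KP A n) (Algebra.TensorProduct.map (incl A n) (AlgHom.id A B) x) =
        (e.conjAlgEquiv R) (Module.End.baseChangeHom R (KP A n) (R ⊗[A] M) (PolLaw.actEnd M R x)) := by
      rw [← h1, actEnd_baseChange]
      rfl
    rw [h2]
    show Polynomial.aeval ((e.conjAlgEquiv R).toAlgHom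
      (Module.End.baseChangeHom R (KP A n) (R ⊗[A] M) (PolLaw.actEnd M R x))) q = 0
    rw [Polynomial.aeval_algHom_apply, Polynomial.aeval_algHom_apply, hq', map_zero, map_zero]
  have hco := (MvPolynomial.isIntegral_iff_isIntegral_coeff (R := A) (S := FractionRing A)
    (f := detK M n x)).1 (by exact hint)
  have hmem : ∀ m, (detK M n x).coeff m ∈ (algebraMap A (FractionRing A)).range := fun m => by
    obtain ⟨a, ha⟩ := IsIntegrallyClosed.isIntegral_iff.1 (hco m)
    exact ⟨a, ha⟩
  obtain ⟨a, ha⟩ : detK M n x ∈ (MvPolynomial.map (algebraMap A (FractionRing A))).range :=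
    (MvPolynomial.mem_range_map_iff_coeffs_subset).2 (fun c hc => by
      obtain ⟨m, -, rfl⟩ := MvPolynomial.mem_coeffs_iff.1 hc
      exact hmem m)
  exact ⟨a, ha⟩

end DetLawNormal
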